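import Mathlib
import Groth.Agent.UnivOpen.UnibranchAlg
import Groth.Agent.LC.PrimeSel

/-!
# Horizontal elements in local domains essentially of finite type
-/

set_option autoImplicit false

universe u

namespace Groth.Agent.HorizLib

/-- An element avoiding all minimal primes drops the dimension. -/
theorem dim_quotient_add_one_le {R : Type u} [CommRing R] (r : R) (hr : ∀ q ∈ minimalPrimes R, r ∉ q) :
    ringKrullDim (R ⧸ Ideal.span {r}) + 1 ≤ ringKrullDim R := by
  rw [ringKrullDim_quotient]
  rcases isEmpty_or_nonempty (PrimeSpectrum.zeroLocus ((Ideal.span {r} : Ideal R) : Set R)) with h | h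
  · rw [Order.krullDim_eq_bot, WithBot.bot_add]
    exact bot_le
  obtain ⟨P₀⟩ := id h
  haveI : Nonempty (PrimeSpectrum R) := ⟨P₀.1⟩
  rw [ringKrullDim, Order.krullDim_eq_iSup_length, Order.krullDim_eq_iSup_length]
  haveI : Nonempty (LTSeries (PrimeSpectrum.zeroLocus ((Ideal.span {r} : Ideal R) : Set R))) :=
    ⟨RelSeries.singleton _ P₀⟩
  rw [← WithBot.coe_one, ← WithBot.coe_add, WithBot.coe_le_coe, ENat.iSup_add]
  refine iSup_le fun l => ?_
  obtain ⟨q, hq, hqle⟩ := Ideal.exists_minimalPrimes_le (bot_le (a := l.head.1.asIdeal))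
  haveI : q.IsPrime := hq.1.1
  have hlt : (⟨q, inferInstance⟩ : PrimeSpectrum R) < l.head.1 := lt_of_le_of_ne hqle fun h => by
    refine hr q hq ?_
    have h' : q = l.head.1.asIdeal := congrArg PrimeSpectrum.asIdeal h
    rw [h']
    exact l.head.2 (Ideal.mem_span_singleton_self r)
  refine le_iSup_of_le ((l.map Subtype.val (fun _ _ h => h)).cons ⟨q, inferInstance⟩ hlt) (le_of_eq ?_)
  exact (by exact_mod_cast (RelSeries.cons_length (l.map Subtype.val fun _ _ h => h) ⟨q, inferInstance⟩ hlt).symm)

/-- A closed point of a fibre without proper generisation in it is isolated in the fibre. -/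
theorem quasiFiniteAt_of_isMaxMin {P C : Type u} [CommRing P] [CommRing C] [Algebra P C]
    [Algebra.FiniteType P C] (q : Ideal C) [q.IsPrime]
    (hmin : ∀ Q : Ideal C, Q.IsPrime → Q ≤ q → Q.under P = q.under P → Q = q)
    (hmax : ∀ Q : Ideal C, Q.IsPrime → q ≤ Q → Q.under P = q.under P → Q = q) :
    Algebra.QuasiFiniteAt P q := by
  let x : PrimeSpectrum C := ⟨q, inferInstance⟩
  let p := x.comap (algebraMap P C)
  refine Algebra.QuasiFiniteAt.of_isOpen_singleton_fiber x ?_
  let e := PrimeSpectrum.preimageHomeomorphFiber P C p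
  haveI : IsNoetherianRing (p.asIdeal.Fiber C) :=
    Algebra.FiniteType.isNoetherianRing p.asIdeal.ResidueField _
  haveI : IsJacobsonRing (p.asIdeal.Fiber C) :=
    isJacobsonRing_of_finiteType (A := p.asIdeal.ResidueField)
  rw [← e.isOpen_image, Set.image_singleton,
    (PrimeSpectrum.isOpen_singleton_tfae_of_isNoetherian_of_isJacobsonRing _).out 0 2 rfl rfl]
  constructor
  · rw [← Set.image_singleton, e.isClosed_image]
    refine isClosed_of_closure_subset fun y hy => ?_
    rw [Topology.IsInducing.subtypeVal.closure_eq_preimage_closure_image, Set.image_singleton] at hy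
    exact Subtype.ext (PrimeSpectrum.ext (hmax _ y.1.2
      ((PrimeSpectrum.le_iff_mem_closure x y.1).2 hy) (congrArg PrimeSpectrum.asIdeal y.2)))
  · intro a b hab ha
    obtain ⟨y, rfl⟩ := e.surjective b
    rw [Set.mem_singleton_iff.1 ha] at hab
    have h2 : y.1 ⤳ x := (subtype_specializes_iff _ _).1 (e.isInducing.specializes_iff.1 hab)
    refine congrArg e (Subtype.ext (PrimeSpectrum.ext (hmin _ y.1.2 ?_ (congrArg PrimeSpectrum.asIdeal y.2))))
    exact (PrimeSpectrum.le_iff_specializes y.1 x).2 h2

section Fibre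

variable {A B : Type u} [CommRing A] [CommRing B] [IsLocalRing A] [IsLocalRing B] [Algebra A B]
  [IsLocalHom (algebraMap A B)] {ι : Type u} (t : ι → B) (C : Subalgebra A B)
  [Algebra (Algebra.adjoin A (Set.range t)) C] [IsScalarTower (Algebra.adjoin A (Set.range t)) C B]

/-- The maximal ideal has no proper generisation in its fibre. -/
theorem no_generisation
    (hsurj : ∀ b : B, ∃ c s : C, s ∉ (IsLocalRing.maximalIdeal B).comap C.val.toRingHom ∧ b * (s : B) = (c : B))
    (hrad : IsLocalRing.maximalIdeal B ≤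
      (Ideal.map (algebraMap A B) (IsLocalRing.maximalIdeal A) ⊔
        Ideal.span (Set.range t ∩ (IsLocalRing.maximalIdeal B : Set B))).radical) :
    ∀ Q : Ideal C, Q.IsPrime → Q ≤ (IsLocalRing.maximalIdeal B).comap C.val.toRingHom →
      Q.under (Algebra.adjoin A (Set.range t)) =
        ((IsLocalRing.maximalIdeal B).comap C.val.toRingHom).under (Algebra.adjoin A (Set.range t)) →
      Q = (IsLocalRing.maximalIdeal B).comap C.val.toRingHom := by
  classical
  let P : Subalgebra A B := Algebra.adjoin A (Set.range t)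
  let q : Ideal C := (IsLocalRing.maximalIdeal B).comap C.val.toRingHom
  haveI hqp : q.IsPrime := Ideal.IsPrime.comap _
  have hPC : ∀ w : P, ((algebraMap P C w : C) : B) = (w : B) := fun w =>
    (IsScalarTower.algebraMap_apply P C B w).symm
  intro Q hQ hle hQP
  refine le_antisymm hle fun z hz => ?_
  have h1 : (z : B) ∈ (Ideal.map (algebraMap A B) (IsLocalRing.maximalIdeal A) ⊔
      Ideal.span (Set.range t ∩ (IsLocalRing.maximalIdeal B : Set B))).radical := hrad hz
  obtain ⟨n, hn⟩ := h1
  -- everything in that ideal, cleared of denominators, lies in `Q`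
  have h2 : ∀ b ∈ Ideal.map (algebraMap A B) (IsLocalRing.maximalIdeal A) ⊔
      Ideal.span (Set.range t ∩ (IsLocalRing.maximalIdeal B : Set B)),
      ∃ c s : C, s ∉ q ∧ c ∈ Q ∧ b * (s : B) = (c : B) := by
    rw [Ideal.map, ← Ideal.span_union]
    intro b hb
    induction hb using Submodule.span_induction with
    | mem x hx =>
      obtain ⟨w, hw, rfl⟩ : ∃ w : P, w ∈ q.under P ∧ (w : B) = x := by
        rcases hx with ⟨a, ha, rfl⟩ | ⟨hx, hxm⟩
        · refine ⟨⟨algebraMap A B a, P.algebraMap_mem a⟩, ?_, rfl⟩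
          show ((algebraMap P C _ : C) : B) ∈ IsLocalRing.maximalIdeal B
          rw [hPC]; exact map_nonunit (algebraMap A B) a ha
        · refine ⟨⟨x, Algebra.subset_adjoin hx⟩, ?_, rfl⟩
          show ((algebraMap P C _ : C) : B) ∈ IsLocalRing.maximalIdeal B
          rw [hPC]; exact hxm
      refine ⟨algebraMap P C w, 1, fun h => q.one_notMem h, ?_, ?_⟩
      · exact (hQP ▸ hw : w ∈ Q.under P)
      · rw [hPC]; simp
    | zero => exact ⟨0, 1, fun h => q.one_notMem h, Q.zero_mem, by simp⟩
    | add x y _ _ hx hy =>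
      obtain ⟨c, s, hs, hc, hcs⟩ := hx
      obtain ⟨c', s', hs', hc', hcs'⟩ := hy
      refine ⟨c * s' + c' * s, s * s', fun h => (hqp.mem_or_mem h).elim hs hs',
        Q.add_mem (Q.mul_mem_right _ hc) (Q.mul_mem_right _ hc'), ?_⟩
      push_cast
      rw [← hcs, ← hcs']
      ring
    | smul a x _ hx =>
      obtain ⟨c, s, hs, hc, hcs⟩ := hx
      obtain ⟨c', s', hs', hcs'⟩ := hsurj a
      refine ⟨c' * c, s' * s, fun h => (hqp.mem_or_mem h).elim hs' hs, Q.mul_mem_left _ hc, ?_⟩
      push_cast
      rw [← hcs, ← hcs', smul_eq_mul]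
      ring
  obtain ⟨c, s, hs, hc, hcs⟩ := h2 _ hn
  have h3 : z ^ n * s ∈ Q := by
    have : z ^ n * s = c := Subtype.ext (by push_cast; exact hcs)
    rw [this]; exact hc
  exact hQ.mem_of_pow_mem n ((hQ.mem_or_mem h3).resolve_right fun h => hs (hle h))

/-- The maximal ideal has no proper specialisation in its fibre. -/
theorem no_specialisation
    (halg : Algebra.IsAlgebraic (Algebra.adjoin (IsLocalRing.ResidueField A)
      (Set.range fun i => IsLocalRing.residue B (t i))) (IsLocalRing.ResidueField B)) :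
    ∀ Q : Ideal C, Q.IsPrime → (IsLocalRing.maximalIdeal B).comap C.val.toRingHom ≤ Q →
      Q.under (Algebra.adjoin A (Set.range t)) =
        ((IsLocalRing.maximalIdeal B).comap C.val.toRingHom).under (Algebra.adjoin A (Set.range t)) →
      Q = (IsLocalRing.maximalIdeal B).comap C.val.toRingHom := by
  classical
  let P : Subalgebra A B := Algebra.adjoin A (Set.range t)
  let q : Ideal C := (IsLocalRing.maximalIdeal B).comap C.val.toRingHom
  haveI hqp : q.IsPrime := Ideal.IsPrime.comap _
  have hPC : ∀ w : P, ((algebraMap P C w : C) : B) = (w : B) := fun w =>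
    (IsScalarTower.algebraMap_apply P C B w).symm
  intro Q hQ hle hQP
  refine (le_antisymm hle fun z hz => ?_).symm
  by_contra hzq
  let kB := IsLocalRing.ResidueField B
  let U := Algebra.adjoin (IsLocalRing.ResidueField A) (Set.range fun i => IsLocalRing.residue B (t i))
  have hz0 : IsLocalRing.residue B (z : B) ≠ 0 := fun h => hzq ((IsLocalRing.residue_eq_zero_iff _).1 h)
  obtain ⟨f, hf0, hf⟩ := (halg.isAlgebraic (IsLocalRing.residue B (z : B))).exists_nonzero_coeff_and_aeval_eq_zero
    (mem_nonZeroDivisors_of_ne_zero hz0)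
  -- lift the coefficients to `P`
  let φ : P →+* kB := (IsLocalRing.residue B).comp P.val.toRingHom
  have hlift : ∀ u : U, ∃ w : P, φ w = (u : kB) := by
    rintro ⟨u, hu⟩
    refine Algebra.adjoin_induction (p := fun v _ => ∃ w : P, φ w = v) ?_ ?_ ?_ ?_ hu
    · rintro _ ⟨i, rfl⟩; exact ⟨⟨t i, Algebra.subset_adjoin ⟨i, rfl⟩⟩, rfl⟩
    · intro a
      obtain ⟨a, rfl⟩ := IsLocalRing.residue_surjective a
      exact ⟨⟨algebraMap A B a, P.algebraMap_mem a⟩, rfl⟩
    · rintro x y - - ⟨v, rfl⟩ ⟨w, rfl⟩; exact ⟨v + w, map_add _ _ _⟩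
    · rintro x y - - ⟨v, rfl⟩ ⟨w, rfl⟩; exact ⟨v * w, map_mul _ _ _⟩
  have hfm : f.map U.subtype ∈ Polynomial.lifts φ := by
    refine (Polynomial.lifts_iff_coeff_lifts _).2 fun i => ?_
    obtain ⟨w, hw⟩ := hlift (f.coeff i)
    exact ⟨w, by rw [hw, Polynomial.coeff_map]; rfl⟩
  obtain ⟨F, hF⟩ := hfm
  have hFz : F.eval₂ (algebraMap P C) z ∈ q := by
    show ((F.eval₂ (algebraMap P C) z : C) : B) ∈ IsLocalRing.maximalIdeal B
    rw [← IsLocalRing.residue_eq_zero_iff]
    have e1 : IsLocalRing.residue B ((F.eval₂ (algebraMap P C) z : C) : B) =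
        F.eval₂ φ (IsLocalRing.residue B (z : B)) := by
      have hφ : φ = ((IsLocalRing.residue B).comp C.val.toRingHom).comp (algebraMap P C) :=
        RingHom.ext fun w => congrArg (IsLocalRing.residue B) (hPC w).symm
      rw [hφ]
      have h := Polynomial.hom_eval₂ F (algebraMap P C) ((IsLocalRing.residue B).comp C.val.toRingHom) z
      exact h
    rw [e1, ← Polynomial.eval_map, show F.map φ = f.map U.subtype from hF, Polynomial.eval_map]
    exact hf
  have h4 : algebraMap P C (F.coeff 0) ∈ Q := by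
    have h5 := hle hFz
    rw [Polynomial.eval₂_eq_sum_range, Finset.sum_range_succ'] at h5
    refine (Submodule.add_mem_iff_right Q ?_).1 (by simpa using h5)
    exact Q.sum_mem fun i _ => Q.mul_mem_left _ (by rw [pow_succ]; exact Q.mul_mem_left _ hz)
  have h6 : φ (F.coeff 0) = 0 :=
    by
      refine (IsLocalRing.residue_eq_zero_iff _).2 ?_
      have h5 : ((algebraMap P C (F.coeff 0) : C) : B) ∈ IsLocalRing.maximalIdeal B :=
        (hQP ▸ h4 : F.coeff 0 ∈ q.under P)
      rw [hPC] at h5
      exact h5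
  apply hf0
  apply Subtype.ext
  have h7 := congrArg (fun g : Polynomial kB => g.coeff 0) (show F.map φ = f.map U.subtype from hF)
  simp only [Polynomial.coeff_map, h6] at h7
  exact h7.symm

end Fibre

/-- Elements of a local domain essentially of finite type over a local ring cutting out the maximal
ideal together with a transcendence basis of the residue field give a quasi-finite presentation. -/
theorem exists_quasiFinite_frame {A B : Type u} [CommRing A] [CommRing B] [IsLocalRing A] [IsLocalRing B]
    [IsDomain B] [Algebra A B] [IsLocalHom (algebraMap A B)] [Algebra.EssFiniteType A B]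
    {ι : Type u} [Fintype ι] (t : ι → B)
    (hrad : IsLocalRing.maximalIdeal B ≤
      (Ideal.map (algebraMap A B) (IsLocalRing.maximalIdeal A) ⊔
        Ideal.span (Set.range t ∩ (IsLocalRing.maximalIdeal B : Set B))).radical)
    (halg : Algebra.IsAlgebraic (Algebra.adjoin (IsLocalRing.ResidueField A)
      (Set.range fun i => IsLocalRing.residue B (t i))) (IsLocalRing.ResidueField B)) :
    ∃ r : B, r ∉ IsLocalRing.maximalIdeal B ∧ IsIntegral (Algebra.adjoin A (Set.range t)) r ∧
      ∀ b : B, ∃ c s : B, s ∉ IsLocalRing.maximalIdeal B ∧ b * s = c ∧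
        IsIntegral (Algebra.adjoin A (Set.range t)) c ∧ IsIntegral (Algebra.adjoin A (Set.range t)) s := by
  classical
  let C₀ := Algebra.EssFiniteType.subalgebra A B
  let P : Subalgebra A B := Algebra.adjoin A (Set.range t)
  let C : Subalgebra A B := C₀ ⊔ P
  haveI : Algebra.FiniteType A C := by
    rw [← Subalgebra.fg_iff_finiteType]
    exact ((Subalgebra.fg_iff_finiteType _).2 inferInstance).sup
      (Subalgebra.fg_def.2 ⟨Set.range t, Set.finite_range t, rfl⟩)
  letI : Algebra P C := (Subalgebra.inclusion (le_sup_right : P ≤ C)).toRingHom.toAlgebra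
  haveI : IsScalarTower A P C := IsScalarTower.of_algebraMap_eq fun _ => rfl
  haveI : IsScalarTower P C B := IsScalarTower.of_algebraMap_eq fun _ => rfl
  haveI : Algebra.FiniteType P C := Algebra.FiniteType.of_restrictScalars_finiteType A P C
  let q : Ideal C := (IsLocalRing.maximalIdeal B).comap C.val.toRingHom
  haveI hqp : q.IsPrime := Ideal.IsPrime.comap _
  have hsurj : ∀ b : B, ∃ c s : C, s ∉ q ∧ b * (s : B) = (c : B) := by
    intro b
    haveI := Algebra.EssFiniteType.isLocalization A B
    obtain ⟨⟨c, s⟩, hs⟩ := IsLocalization.surj (Algebra.EssFiniteType.submonoid A B) b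
    refine ⟨⟨c.1, (le_sup_left : C₀ ≤ C) c.2⟩, ⟨s.1.1, (le_sup_left : C₀ ≤ C) s.1.2⟩, ?_, hs⟩
    exact fun h => (IsLocalRing.mem_maximalIdeal _).1 h s.2
  haveI := quasiFiniteAt_of_isMaxMin q (no_generisation t C hsurj hrad) (no_specialisation t C halg)
  obtain ⟨r, hr, hri, hx⟩ := (Algebra.zariskisMainProperty_iff (R := P) (p := q)).1
    (Algebra.ZariskisMainProperty.of_finiteType q)
  refine ⟨(r : B), hr, hri.map (IsScalarTower.toAlgHom P C B), fun b => ?_⟩
  obtain ⟨c, s, hs, hcs⟩ := hsurj b
  obtain ⟨m₁, hm₁⟩ := hx c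
  obtain ⟨m₂, hm₂⟩ := hx s
  refine ⟨((r ^ (m₁ + m₂) * c : C) : B), ((r ^ (m₁ + m₂) * s : C) : B), ?_, ?_, ?_, ?_⟩
  · show r ^ (m₁ + m₂) * s ∉ q
    exact fun h => (hqp.mem_or_mem h).elim (fun h => hr (hqp.mem_of_pow_mem _ h)) hs
  · push_cast
    rw [← hcs]
    ring
  · have h : IsIntegral P (r ^ (m₁ + m₂) * c) := by
      rw [pow_add, mul_comm (r ^ m₁), mul_assoc]
      exact (hri.pow _).mul hm₁
    exact h.map (IsScalarTower.toAlgHom P C B)
  · have h : IsIntegral P (r ^ (m₁ + m₂) * s) := by
      rw [pow_add, mul_assoc]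
      exact (hri.pow _).mul hm₂
    exact h.map (IsScalarTower.toAlgHom P C B)

/-- A prime of a normal domain below a unit of a valuation ring cannot be cancelled by integral elements. -/
theorem mem_span_of_mul_eq {P' K : Type u} [CommRing P'] [IsDomain P'] [IsIntegrallyClosed P'] [Field K]
    [Algebra P' K] [FaithfulSMul P' K] (V : ValuationSubring K) (hPV : ∀ x : P', algebraMap P' K x ∈ V)
    (X α : P') (hX : Prime X) (hXm : (⟨algebraMap P' K X, hPV X⟩ : V) ∈ IsLocalRing.maximalIdeal V)
    {s c : K} (hsi : IsIntegral P' s) (hc : IsIntegral P' c) (hsV : s ∈ V)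
    (hs : (⟨s, hsV⟩ : V) ∉ IsLocalRing.maximalIdeal V)
    (heq : algebraMap P' K α * s = algebraMap P' K X * c) : α ∈ Ideal.span {X} := by
  let D := integralClosure P' K
  letI : Algebra P' V := ((algebraMap P' K).codRestrict V.toSubring hPV).toAlgebra
  haveI : IsScalarTower P' V K := IsScalarTower.of_algebraMap_eq fun z => rfl
  have hDV : ∀ x : D, (x : K) ∈ V := fun x => by
    obtain ⟨y, hy⟩ := IsIntegrallyClosed.isIntegral_iff (R := V) (K := K) |>.1
      (IsIntegral.tower_top (A := V) x.2)
    exact hy ▸ y.2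
  let ψ : D →+* V := (D.val.toRingHom).codRestrict V.toSubring hDV
  let qbar : Ideal D := (IsLocalRing.maximalIdeal V).comap ψ
  haveI : FaithfulSMul P' D := (faithfulSMul_iff_algebraMap_injective _ _).2 fun x y h =>
    FaithfulSMul.algebraMap_injective P' K (congrArg Subtype.val h)
  haveI : (Ideal.span {X}).IsPrime := (Ideal.span_singleton_prime hX.ne_zero).2 hX
  have hXle : Ideal.span {X} ≤ qbar.under P' := (Ideal.span_singleton_le_iff_mem (I := qbar.under P')).2 hXm
  obtain ⟨Q, hQle, hQ, hQo⟩ := Ideal.exists_ideal_le_liesOver_of_le (R := P') qbar hXle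
  have hXQ : algebraMap P' D X ∈ Q :=
    (hQo.over ▸ Ideal.mem_span_singleton_self X : X ∈ Q.under P')
  have heq' : algebraMap P' D α * ⟨s, hsi⟩ = algebraMap P' D X * ⟨c, hc⟩ := Subtype.ext heq
  rw [hQo.over]
  refine (hQ.mem_or_mem (heq' ▸ Q.mul_mem_right _ hXQ :
    algebraMap P' D α * (⟨s, hsi⟩ : D) ∈ Q)).resolve_right fun h => hs ?_
  exact hQle h

/-- In a local domain whose elements are fractions of integral elements over a polynomial ring, a variable
lying in the maximal ideal divides no nonzero constant. -/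
theorem injective_of_frame {A B : Type u} [CommRing A] [CommRing B] [IsDomain A] [IsDomain B] [IsLocalRing B]
    [Algebra A B] [FaithfulSMul A B] {ι : Type u} (t : ι → B) (hind : AlgebraicIndependent A t)
    (hfrac : ∀ b : B, ∃ c s : B, s ∉ IsLocalRing.maximalIdeal B ∧ b * s = c ∧
      IsIntegral (Algebra.adjoin A (Set.range t)) c ∧ IsIntegral (Algebra.adjoin A (Set.range t)) s)
    (i₀ : ι) (hi₀ : t i₀ ∈ IsLocalRing.maximalIdeal B) (a : A)
    (ha : algebraMap A B a ∈ Ideal.span {t i₀}) : a = 0 := by
  classical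
  by_contra ha0
  obtain ⟨b, hb⟩ := Ideal.mem_span_singleton'.1 ha
  obtain ⟨c, s, hs, hbs, hc, hsi⟩ := hfrac b
  -- the integral closure of `A`, a normal domain
  let K := FractionRing B
  haveI : FaithfulSMul A K := (faithfulSMul_iff_algebraMap_injective _ _).2 (by
    rw [IsScalarTower.algebraMap_eq A B K, RingHom.coe_comp]
    exact (IsFractionRing.injective B K).comp (FaithfulSMul.algebraMap_injective A B))
  letI : Algebra (FractionRing A) K := FractionRing.liftAlgebra A K
  let A' : Subalgebra A K := (integralClosure A (FractionRing A)).map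
    (IsScalarTower.toAlgHom A (FractionRing A) K)
  haveI : IsIntegrallyClosed (integralClosure A (FractionRing A)) :=
    integralClosure.isIntegrallyClosedOfFiniteExtension (FractionRing A)
  let eA : integralClosure A (FractionRing A) ≃ₐ[A] A' := Subalgebra.equivMapOfInjective _ _
    (IsScalarTower.toAlgHom A (FractionRing A) K).injective
  haveI : IsIntegrallyClosed A' := IsIntegrallyClosed.of_equiv eA.toRingEquiv
  haveI : Algebra.IsIntegral A A' := ⟨fun x => by
    obtain ⟨y, rfl⟩ := eA.surjective x
    exact (Algebra.IsIntegral.isIntegral (R := A) y).map eA.toAlgHom⟩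
  let t' : ι → K := fun i => algebraMap B K (t i)
  have hindA : AlgebraicIndependent A t' :=
    hind.map' (f := IsScalarTower.toAlgHom A B K) (IsFractionRing.injective B K)
  have hind' : AlgebraicIndependent A' t' := hindA.extendScalars_of_isIntegral A'
  let P' := MvPolynomial ι A'
  letI : Algebra P' K := (MvPolynomial.aeval t' : P' →ₐ[A'] K).toRingHom.toAlgebra
  haveI : FaithfulSMul P' K := (faithfulSMul_iff_algebraMap_injective _ _).2 hind'
  haveI : IsIntegrallyClosed P' := UnivOpen.isIntegrallyClosed_mvPolynomial A' ι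
  -- a valuation ring dominating `B`
  let eB : B ≃+* (algebraMap B K).range := RingEquiv.ofBijective (algebraMap B K).rangeRestrict
    ⟨fun u v huv => IsFractionRing.injective B K (congrArg Subtype.val huv),
      (algebraMap B K).rangeRestrict_surjective⟩
  obtain ⟨V, hVle, hVm⟩ := Ideal.image_subset_nonunits_valuationSubring
    ((IsLocalRing.maximalIdeal B).comap eB.symm.toRingHom)
    (Ideal.comap_ne_top _ (IsLocalRing.maximalIdeal.isMaximal B).ne_top)
  have hBV : ∀ x : B, algebraMap B K x ∈ V := fun x => hVle ⟨x, rfl⟩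
  have hBm : ∀ x : B, (⟨algebraMap B K x, hBV x⟩ : V) ∈ IsLocalRing.maximalIdeal V ↔
      x ∈ IsLocalRing.maximalIdeal B := by
    intro x
    constructor
    · intro h
      rw [IsLocalRing.mem_maximalIdeal] at h ⊢
      exact fun hu => h (hu.map ((algebraMap B K).codRestrict V.toSubring hBV))
    · intro h
      refine ValuationSubring.coe_mem_nonunits_iff.1 (hVm ⟨eB x, ?_, rfl⟩)
      show eB.symm (eB x) ∈ IsLocalRing.maximalIdeal B
      rwa [RingEquiv.symm_apply_apply]
  have hAV : ∀ x : A', (x : K) ∈ V := by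
    intro x
    have h1 : IsIntegral A (x : K) := (Algebra.IsIntegral.isIntegral (R := A) x).map A'.val
    obtain ⟨y, hy⟩ := IsIntegrallyClosed.isIntegral_iff (R := V) (K := K) |>.1 (by
      letI : Algebra A V := (((algebraMap B K).comp (algebraMap A B)).codRestrict V.toSubring fun z => hBV _).toAlgebra
      haveI : IsScalarTower A V K := IsScalarTower.of_algebraMap_eq fun z =>
        (IsScalarTower.algebraMap_apply A B K z)
      exact h1.tower_top)
    exact hy ▸ y.2
  have hPV : ∀ x : P', algebraMap P' K x ∈ V := by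
    intro x
    induction x using MvPolynomial.induction_on with
    | C r =>
      show MvPolynomial.aeval t' (MvPolynomial.C r) ∈ V
      rw [MvPolynomial.aeval_C]; exact hAV r
    | add p q hp hq => rw [map_add]; exact add_mem hp hq
    | mul_X p i hp =>
      rw [map_mul]
      refine mul_mem hp ?_
      show MvPolynomial.aeval t' (MvPolynomial.X i) ∈ V
      rw [MvPolynomial.aeval_X]; exact hBV _
  -- integral elements of `B` are integral over `P'`
  have hBD : ∀ x : B, IsIntegral (Algebra.adjoin A (Set.range t)) x → IsIntegral P' (algebraMap B K x) := by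
    intro x hx
    let g : Algebra.adjoin A (Set.range t) →+* P' :=
      (MvPolynomial.map (algebraMap A A') : MvPolynomial ι A →+* P').comp
        hind.aevalEquiv.symm.toRingEquiv.toRingHom
    refine IsIntegral.map_of_comp_eq g (algebraMap B K) ?_ hx
    refine RingHom.ext fun w => ?_
    obtain ⟨p, rfl⟩ := hind.aevalEquiv.surjective w
    show MvPolynomial.aeval t' (MvPolynomial.map (algebraMap A A') (hind.aevalEquiv.symm (hind.aevalEquiv p))) =
      algebraMap B K (hind.aevalEquiv p : B)
    rw [AlgEquiv.symm_apply_apply, MvPolynomial.aeval_map_algebraMap]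
    exact MvPolynomial.aeval_algebraMap_apply (A := B) (B := K) t p
  have haQ : (MvPolynomial.C (algebraMap A A' a) : P') ∈ Ideal.span {(MvPolynomial.X i₀ : P')} := by
    refine mem_span_of_mul_eq V hPV _ _ MvPolynomial.X_prime ?_ (hBD s hsi) (hBD c hc) (hBV s) ?_ ?_
    · convert (hBm (t i₀)).2 hi₀
      exact MvPolynomial.aeval_X t' i₀
    · exact fun h => hs ((hBm s).1 h)
    · show MvPolynomial.aeval t' (MvPolynomial.C (algebraMap A A' a)) * algebraMap B K s =
        MvPolynomial.aeval t' (MvPolynomial.X i₀) * algebraMap B K c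
      rw [MvPolynomial.aeval_C, MvPolynomial.aeval_X, ← IsScalarTower.algebraMap_apply A A' K,
        IsScalarTower.algebraMap_apply A B K, ← map_mul, ← map_mul, ← hb, ← hbs]
      congr 1
      ring
  obtain ⟨w, hw⟩ := Ideal.mem_span_singleton'.1 haQ
  have h0 := congrArg (MvPolynomial.eval (0 : ι → A')) hw
  rw [map_mul, MvPolynomial.eval_X, MvPolynomial.eval_C, Pi.zero_apply, mul_zero] at h0
  refine ha0 ?_
  have hinj : Function.Injective (algebraMap A K) := by
    rw [IsScalarTower.algebraMap_eq A B K, RingHom.coe_comp]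
    exact (IsFractionRing.injective B K).comp (FaithfulSMul.algebraMap_injective A B)
  exact hinj (by rw [map_zero]; exact (congrArg Subtype.val h0).symm)

end Groth.Agent.HorizLib
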