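import Groth.Agent.HorizLib.Main
import Groth.Agent.DimTrdeg.Local
import Groth.Agent.FibDim.RelDim

set_option autoImplicit false
set_option backward.isDefEq.respectTransparency false
set_option backward.isDefEq.respectTransparency.types false

universe u

open AlgebraicGeometry CategoryTheory

namespace Groth.Agent.HorizLib

/-- The fibre dimension at the generic point is the transcendence degree. -/
theorem fibreDimAt_bot {A C : Type u} [CommRing A] [CommRing C] [IsDomain A] [IsDomain C] [Algebra A C]
    [FaithfulSMul A C] [Algebra.FiniteType A C] :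
    FlatMor.fibreDimAt (Spec.map (CommRingCat.ofHom (algebraMap A C))) (⟨⊥, Ideal.isPrime_bot⟩ : PrimeSpectrum C) =
      ((Cardinal.toNat (Algebra.trdeg A C) : ℕ) : WithBot ℕ∞) := by
  classical
  haveI : (⊥ : Ideal C).LiesOver (⊥ : Ideal A) := ⟨(le_antisymm (fun a ha =>
    (FaithfulSMul.algebraMap_injective A C) (by rw [map_zero]; exact ha)) bot_le).symm⟩
  letI : Algebra (⊥ : Ideal A).ResidueField (⊥ : Ideal C).ResidueField :=
    (Ideal.ResidueField.map (⊥ : Ideal A) (⊥ : Ideal C) (algebraMap A C)
      (Ideal.over_def (⊥ : Ideal C) (⊥ : Ideal A))).toAlgebra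
  haveI : IsScalarTower A (⊥ : Ideal A).ResidueField (⊥ : Ideal C).ResidueField :=
    IsScalarTower.of_algebraMap_eq fun a => by
      rw [IsScalarTower.algebraMap_apply A C]
      exact (Ideal.ResidueField.map_algebraMap _ _ _ _ a).symm
  obtain ⟨e, he, hdim⟩ := DimTrdeg.fibreDimAt_eq (⊥ : Ideal C) (⊥ : Ideal A)
  refine hdim.trans ?_
  have h0 : ringKrullDim (Localization.AtPrime (⊥ : Ideal C) ⧸
      (⊥ : Ideal A).map (algebraMap A (Localization.AtPrime (⊥ : Ideal C)))) = 0 := by
    rw [Ideal.map_bot, ringKrullDim_eq_of_ringEquiv (RingEquiv.quotientBot _)]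
    haveI := (IsLocalRing.isField_iff_maximalIdeal_eq (R := Localization.AtPrime (⊥ : Ideal C))).2 (by
      rw [← Localization.AtPrime.map_eq_maximalIdeal, Ideal.map_bot])
    exact ringKrullDim_eq_zero_of_isField this
  rw [h0, zero_add]
  have h1 : Algebra.trdeg A C = Algebra.trdeg (⊥ : Ideal A).ResidueField (⊥ : Ideal C).ResidueField := by
    let K := (⊥ : Ideal A).ResidueField
    let L := (⊥ : Ideal C).ResidueField
    have hA : Function.Injective (algebraMap A K) := fun a b h => sub_eq_zero.1
      (Ideal.algebraMap_residueField_eq_zero.1 (show algebraMap A K (a - b) = 0 by rw [map_sub, h, sub_self]))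
    have hC : Function.Injective (algebraMap C L) := fun a b h => sub_eq_zero.1
      (Ideal.algebraMap_residueField_eq_zero.1 (show algebraMap C L (a - b) = 0 by rw [map_sub, h, sub_self]))
    haveI : FaithfulSMul A K := (faithfulSMul_iff_algebraMap_injective _ _).2 hA
    haveI : FaithfulSMul C L := (faithfulSMul_iff_algebraMap_injective _ _).2 hC
    haveI : FaithfulSMul A L := (faithfulSMul_iff_algebraMap_injective _ _).2 (by
      rw [IsScalarTower.algebraMap_eq A C L]; exact hC.comp (FaithfulSMul.algebraMap_injective A C))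
    haveI : FaithfulSMul K L := (faithfulSMul_iff_algebraMap_injective _ _).2 (RingHom.injective _)
    haveI : Algebra.IsAlgebraic (A ⧸ (⊥ : Ideal A)) K := IsLocalization.isAlgebraic _ (nonZeroDivisors _)
    haveI : Algebra.IsAlgebraic (C ⧸ (⊥ : Ideal C)) L := IsLocalization.isAlgebraic _ (nonZeroDivisors _)
    haveI : Algebra.IsAlgebraic A K := Algebra.IsAlgebraic.trans A (A ⧸ (⊥ : Ideal A)) K
    haveI : Algebra.IsAlgebraic C L := Algebra.IsAlgebraic.trans C (C ⧸ (⊥ : Ideal C)) L
    rw [DimTrdeg.trdeg_eq_of_algebraic A C L]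
    have h := lift_trdeg_add_eq A K L
    rw [trdeg_eq_zero (R := A) (A := K)] at h
    simpa using h.symm
  rw [h1, he, Cardinal.toNat_natCast]

/-- An element of a finite type domain over a domain, at a point of small fibre dimension, either vanishes
somewhere on the generic fibre or on a component of the fibre through the point. -/
theorem generic_or_vertical {A C : Type u} [CommRing A] [CommRing C] [IsDomain A] [IsDomain C] [Algebra A C]
    [FaithfulSMul A C] [Algebra.FiniteType A C] (q : Ideal C) [q.IsPrime] (g : C) (hg : g ∈ q)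
    (hdim : FlatMor.fibreDimAt (Spec.map (CommRingCat.ofHom (algebraMap A C))) (⟨q, inferInstance⟩ : PrimeSpectrum C) ≤
      FlatMor.fibreDimAt (Spec.map (CommRingCat.ofHom (algebraMap A C))) (⟨⊥, Ideal.isPrime_bot⟩ : PrimeSpectrum C)) :
    (∃ Q : Ideal C, Q.IsPrime ∧ g ∈ Q ∧ Q.under A = ⊥) ∨
    (∃ Q : Ideal C, Q.IsPrime ∧ g ∈ Q ∧ Q ≤ q ∧ Q.under A = q.under A ∧
      ∀ Q' : Ideal C, Q'.IsPrime → Q' ≤ Q → Q'.under A = q.under A → Q' = Q) := by
  classical
  let p : Ideal A := q.under A
  haveI : q.LiesOver p := ⟨rfl⟩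
  let Aₗ := Localization.AtPrime p
  let B := Localization.AtPrime q
  letI : Algebra Aₗ B := (Localization.localRingHom p q (algebraMap A C) rfl).toAlgebra
  haveI : IsScalarTower A Aₗ B := IsScalarTower.of_algebraMap_eq fun a => by
    rw [RingHom.algebraMap_toAlgebra, Localization.localRingHom_to_map, IsScalarTower.algebraMap_apply A C B]
  haveI : IsLocalHom (algebraMap Aₗ B) := Localization.isLocalHom_localRingHom p q (algebraMap A C) rfl
  have hCB : Function.Injective (algebraMap C B) :=
    IsLocalization.injective B q.primeCompl_le_nonZeroDivisors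
  have hAB : Function.Injective (algebraMap A B) := by
    rw [IsScalarTower.algebraMap_eq A C B, RingHom.coe_comp]
    exact hCB.comp (FaithfulSMul.algebraMap_injective A C)
  haveI : FaithfulSMul A B := (faithfulSMul_iff_algebraMap_injective _ _).2 hAB
  haveI : FaithfulSMul C B := (faithfulSMul_iff_algebraMap_injective _ _).2 hCB
  haveI : FaithfulSMul A Aₗ := (faithfulSMul_iff_algebraMap_injective _ _).2
    (IsLocalization.injective Aₗ p.primeCompl_le_nonZeroDivisors)
  haveI : IsDomain Aₗ := IsLocalization.isDomain_localization p.primeCompl_le_nonZeroDivisors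
  haveI : IsDomain B := IsLocalization.isDomain_localization q.primeCompl_le_nonZeroDivisors
  haveI : FaithfulSMul Aₗ B := (faithfulSMul_iff_algebraMap_injective _ _).2 (by
    rw [injective_iff_map_eq_zero]
    intro x hx
    obtain ⟨a, s, rfl⟩ := IsLocalization.exists_mk'_eq p.primeCompl x
    have h := congrArg (algebraMap Aₗ B) (IsLocalization.mk'_spec Aₗ a s)
    rw [map_mul, hx, zero_mul, ← IsScalarTower.algebraMap_apply] at h
    rw [IsLocalization.mk'_eq_zero_iff]
    exact ⟨1, by simpa using hAB (h.symm.trans (map_zero _).symm)⟩)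
  haveI : Algebra.EssFiniteType C B := Algebra.EssFiniteType.of_isLocalization B q.primeCompl
  haveI : Algebra.EssFiniteType A B := Algebra.EssFiniteType.comp A C B
  haveI : Algebra.EssFiniteType Aₗ B := Algebra.EssFiniteType.of_comp A Aₗ B
  by_cases hmin : ∀ Q ∈ (Ideal.map (algebraMap Aₗ B) (IsLocalRing.maximalIdeal Aₗ)).minimalPrimes,
      algebraMap C B g ∉ Q
  · left
    have hgB : algebraMap C B g ∈ IsLocalRing.maximalIdeal B :=
      (IsLocalization.AtPrime.to_map_mem_maximal_iff B q g).2 hg
    letI : Algebra p.ResidueField q.ResidueField :=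
      (inferInstance : Algebra (IsLocalRing.ResidueField Aₗ) (IsLocalRing.ResidueField B))
    haveI : IsScalarTower A p.ResidueField q.ResidueField := IsScalarTower.of_algebraMap_eq fun a => by
      show IsLocalRing.residue B (algebraMap A B a) = IsLocalRing.residue B (algebraMap Aₗ B (algebraMap A Aₗ a))
      rw [← IsScalarTower.algebraMap_apply A Aₗ B]
    obtain ⟨e, he, hfd⟩ := DimTrdeg.fibreDimAt_eq q p
    rw [hfd, fibreDimAt_bot] at hdim
    have hmap : p.map (algebraMap A B) = (IsLocalRing.maximalIdeal Aₗ).map (algebraMap Aₗ B) := by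
      rw [← Localization.AtPrime.map_eq_maximalIdeal, Ideal.map_map, ← IsScalarTower.algebraMap_eq A Aₗ B]
    rw [show ringKrullDim (B ⧸ p.map (algebraMap A B)) =
      ringKrullDim (B ⧸ (IsLocalRing.maximalIdeal Aₗ).map (algebraMap Aₗ B)) by rw [hmap]] at hdim
    haveI : Nontrivial (B ⧸ (IsLocalRing.maximalIdeal Aₗ).map (algebraMap Aₗ B)) :=
      Ideal.Quotient.nontrivial_iff.2 fun h => (IsLocalRing.maximalIdeal.isMaximal B).ne_top
        (top_le_iff.1 (h ▸ Ideal.map_le_iff_le_comap.2 fun x hx => map_nonunit (algebraMap Aₗ B) x hx))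
    have h0 := ringKrullDim_nonneg_of_nontrivial (R := B ⧸ (IsLocalRing.maximalIdeal Aₗ).map (algebraMap Aₗ B))
    obtain ⟨d, hd⟩ : ∃ d : ℕ, ringKrullDim (B ⧸ (IsLocalRing.maximalIdeal Aₗ).map (algebraMap Aₗ B)) = d := by
      generalize ringKrullDim (B ⧸ (IsLocalRing.maximalIdeal Aₗ).map (algebraMap Aₗ B)) = D at hdim h0
      cases D with
      | bot => simp at h0
      | coe D =>
        cases D with
        | top =>
          have h2 : ((⊤ + (e : ℕ∞) : ℕ∞) : WithBot ℕ∞) ≤
            (((Cardinal.toNat (Algebra.trdeg A C) : ℕ) : ℕ∞) : WithBot ℕ∞) := hdim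
          rw [WithBot.coe_le_coe, top_add] at h2
          exact absurd (top_le_iff.1 h2) (ENat.coe_ne_top _)
        | coe D => exact ⟨D, rfl⟩
    rw [hd] at hdim
    have hnat : d + e ≤ Cardinal.toNat (Algebra.trdeg A C) := by exact_mod_cast hdim
    haveI : Algebra.IsAlgebraic C B := IsLocalization.isAlgebraic B q.primeCompl
    haveI : Algebra.IsAlgebraic A Aₗ := IsLocalization.isAlgebraic Aₗ p.primeCompl
    have htr : Algebra.trdeg A C = Algebra.trdeg Aₗ B := by
      rw [DimTrdeg.trdeg_eq_of_algebraic A C B]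
      have h := lift_trdeg_add_eq A Aₗ B
      rw [trdeg_eq_zero (R := A) (A := Aₗ)] at h
      simpa using h.symm
    have hsum : ((d + e : ℕ) : Cardinal) ≤ Algebra.trdeg Aₗ B := by
      rw [← htr, ← Cardinal.cast_toNat_of_lt_aleph0 (trdeg_lt_aleph0_of_finiteType (R := A) (S := C))]
      exact_mod_cast hnat
    have key := fun a => eq_zero_of_dvd_horizontal (A := Aₗ) (B := B) (algebraMap C B g) hgB hmin d e hd he hsum a
    have hdisj : Disjoint ((Ideal.span {algebraMap C B g} : Ideal B) : Set B)
        (((nonZeroDivisors A).map (algebraMap A B) : Submonoid B) : Set B) := by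
      rw [Set.disjoint_left]
      rintro _ hb ⟨a, ha, rfl⟩
      rw [IsScalarTower.algebraMap_apply A Aₗ B] at hb
      exact nonZeroDivisors.ne_zero ha (FaithfulSMul.algebraMap_injective A Aₗ ((key _ hb).trans (map_zero _).symm))
    obtain ⟨Q, hQ, hgQ, hQd⟩ := Ideal.exists_le_prime_disjoint _ _ hdisj
    haveI := hQ
    refine ⟨Q.comap (algebraMap C B), inferInstance, hgQ (Ideal.mem_span_singleton_self _), ?_⟩
    refine le_antisymm (fun a ha => ?_) bot_le
    by_contra ha0
    refine Set.disjoint_left.1 hQd (show algebraMap A B a ∈ Q from ?_) ⟨a, mem_nonZeroDivisors_of_ne_zero ha0, rfl⟩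
    rw [IsScalarTower.algebraMap_apply A C B]
    exact ha
  · right
    push Not at hmin
    obtain ⟨Q, hQmin, hgQ⟩ := hmin
    haveI := hQmin.1.1
    have hle : Q.comap (algebraMap C B) ≤ q := fun x hx =>
      (IsLocalization.AtPrime.to_map_mem_maximal_iff B q x).1 (IsLocalRing.le_maximalIdeal_of_isPrime Q hx)
    refine ⟨Q.comap (algebraMap C B), inferInstance, hgQ, hle, ?_, ?_⟩
    · refine le_antisymm (Ideal.comap_mono hle) fun a ha => ?_
      show algebraMap C B (algebraMap A C a) ∈ Q
      rw [← IsScalarTower.algebraMap_apply A C B, IsScalarTower.algebraMap_apply A Aₗ B]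
      exact hQmin.1.2 (Ideal.mem_map_of_mem _ ((IsLocalization.AtPrime.to_map_mem_maximal_iff Aₗ p a).2 ha))
    · intro Q' hQ' hle' hu
      have hd' : Disjoint (q.primeCompl : Set C) (Q' : Set C) :=
        Set.disjoint_left.2 fun x hx hx' => hx (hle (hle' hx'))
      have hP : (Q'.map (algebraMap C B)).IsPrime :=
        IsLocalization.isPrime_of_isPrime_disjoint q.primeCompl B Q' hQ' hd'
      have hm : Ideal.map (algebraMap Aₗ B) (IsLocalRing.maximalIdeal Aₗ) ≤ Q'.map (algebraMap C B) := by
        rw [← Localization.AtPrime.map_eq_maximalIdeal, Ideal.map_map, ← IsScalarTower.algebraMap_eq A Aₗ B,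
          IsScalarTower.algebraMap_eq A C B, ← Ideal.map_map]
        exact Ideal.map_mono (Ideal.map_le_iff_le_comap.2 hu.ge)
      have hle2 := hQmin.2 ⟨hP, hm⟩ (Ideal.map_le_iff_le_comap.2 hle')
      refine le_antisymm hle' fun x hx => ?_
      rw [← IsLocalization.comap_map_of_isPrime_disjoint q.primeCompl B hQ' hd']
      exact hle2 hx

end Groth.Agent.HorizLib
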