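import Groth.Agent.HorizLib.Basic

set_option autoImplicit false

universe u

namespace Groth.Agent.HorizLib

theorem eq_zero_of_dvd_horizontal {A B : Type u} [CommRing A] [CommRing B] [IsDomain A] [IsDomain B] [IsLocalRing A]
    [IsLocalRing B] [Algebra A B] [IsLocalHom (algebraMap A B)] [FaithfulSMul A B] [Algebra.EssFiniteType A B]
    (g : B) (hg : g ∈ IsLocalRing.maximalIdeal B)
    (hmin : ∀ q ∈ (Ideal.map (algebraMap A B) (IsLocalRing.maximalIdeal A)).minimalPrimes, g ∉ q)
    (d e : ℕ) (hd : ringKrullDim (B ⧸ Ideal.map (algebraMap A B) (IsLocalRing.maximalIdeal A)) = d)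
    (he : Algebra.trdeg (IsLocalRing.ResidueField A) (IsLocalRing.ResidueField B) = e)
    (hsum : ((d + e : ℕ) : Cardinal) ≤ Algebra.trdeg A B) (a : A) (ha : algebraMap A B a ∈ Ideal.span {g}) : a = 0 := by
  classical
  let mB := Ideal.map (algebraMap A B) (IsLocalRing.maximalIdeal A)
  have hmB : mB ≤ IsLocalRing.maximalIdeal B :=
    Ideal.map_le_iff_le_comap.2 fun x hx => map_nonunit (algebraMap A B) x hx
  haveI : IsNoetherianRing (B ⧸ mB) := by
    letI := Ideal.Quotient.field (IsLocalRing.maximalIdeal A)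
    haveI : Algebra.EssFiniteType A (B ⧸ mB) := inferInstance
    haveI : Algebra.EssFiniteType (A ⧸ IsLocalRing.maximalIdeal A) (B ⧸ mB) :=
      Algebra.EssFiniteType.of_comp A _ _
    exact Algebra.EssFiniteType.isNoetherianRing (A ⧸ IsLocalRing.maximalIdeal A) (B ⧸ mB)
  have hntop : mB ≠ ⊤ := fun h => (IsLocalRing.maximalIdeal.isMaximal B).ne_top (top_le_iff.1 (h ▸ hmB))
  haveI : Nontrivial (B ⧸ mB) := Ideal.Quotient.nontrivial_iff.2 hntop
  haveI : IsLocalRing (B ⧸ mB) := .of_surjective' (Ideal.Quotient.mk mB) Ideal.Quotient.mk_surjective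
  let g' : B ⧸ mB := Ideal.Quotient.mk mB g
  have hg' : ∀ q ∈ minimalPrimes (B ⧸ mB), g' ∉ q := by
    intro q hq hgq
    refine hmin (q.comap (Ideal.Quotient.mk mB)) ?_ hgq
    rw [Ideal.minimalPrimes_eq_comap]
    exact ⟨q, hq, rfl⟩
  have h1 := dim_quotient_add_one_le g' hg'
  rw [hd] at h1
  haveI : IsLocalHom (Ideal.Quotient.mk mB) := Ideal.Quotient.mk_surjective.isLocalHom (Ideal.Quotient.mk mB)
  have hgm : g' ∈ IsLocalRing.maximalIdeal (B ⧸ mB) :=
    map_nonunit (Ideal.Quotient.mk mB) g hg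
  have hne : Ideal.span {g'} ≠ ⊤ := fun h =>
    (IsLocalRing.maximalIdeal.isMaximal (B ⧸ mB)).ne_top
      (top_le_iff.1 (h ▸ (Ideal.span_singleton_le_iff_mem (I := IsLocalRing.maximalIdeal (B ⧸ mB))).2 hgm))
  let R := (B ⧸ mB) ⧸ Ideal.span {g'}
  haveI : Nontrivial R := Ideal.Quotient.nontrivial_iff.2 hne
  haveI : IsLocalRing R := .of_surjective' (Ideal.Quotient.mk _) Ideal.Quotient.mk_surjective
  obtain ⟨d', hd'⟩ : ∃ d' : ℕ, ringKrullDim R = d' ∧ d' + 1 ≤ d := by
    obtain ⟨k, hk⟩ : ∃ k : ℕ, ringKrullDim R = k := by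
      have h0 := ringKrullDim_nonneg_of_nontrivial (R := R)
      generalize ringKrullDim R = D at h1 h0
      cases D with
      | bot => simp at h0
      | coe D =>
        cases D with
        | top =>
          have h2 : ((⊤ : ℕ∞) : WithBot ℕ∞) + 1 ≤ ((d : ℕ∞) : WithBot ℕ∞) := h1
          rw [← WithBot.coe_one, ← WithBot.coe_add, top_add, WithBot.coe_le_coe] at h2
          exact absurd (top_le_iff.1 h2) (ENat.coe_ne_top d)
        | coe D => exact ⟨D, rfl⟩
    exact ⟨k, hk, by rw [hk] at h1; exact_mod_cast h1⟩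
  obtain ⟨hd', hle⟩ := hd'
  obtain ⟨f, hf, hfrad⟩ := LC.exists_gens_radical_eq_of_local d' hd' (IsLocalRing.maximalIdeal R)
    (IsLocalRing.maximalIdeal.isMaximal R).ne_top
  let π : B →+* R := (Ideal.Quotient.mk _).comp (Ideal.Quotient.mk mB)
  have hπ : Function.Surjective π := Ideal.Quotient.mk_surjective.comp Ideal.Quotient.mk_surjective
  haveI : IsLocalHom π := hπ.isLocalHom π
  choose x hx using fun i => hπ (f i)
  -- transcendence basis of the residue field
  haveI : FaithfulSMul (IsLocalRing.ResidueField A) (IsLocalRing.ResidueField B) :=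
    (faithfulSMul_iff_algebraMap_injective _ _).2 (RingHom.injective _)
  obtain ⟨S, hS⟩ := exists_isTranscendenceBasis (IsLocalRing.ResidueField A) (IsLocalRing.ResidueField B)
  have hScard : Cardinal.mk S = e := hS.cardinalMk_eq_trdeg.trans he
  haveI : Finite S := Cardinal.lt_aleph0_iff_finite.1 (hScard ▸ Cardinal.natCast_lt_aleph0)
  haveI := Fintype.ofFinite S
  choose y hy using fun v : S => IsLocalRing.residue_surjective (v : IsLocalRing.ResidueField B)
  let ι : Type u := (ULift.{u} (Option (Fin d'))) ⊕ S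
  let t : ι → B := Sum.elim (fun o => o.down.elim g x) y
  have hrad : IsLocalRing.maximalIdeal B ≤
      (mB ⊔ Ideal.span (Set.range t ∩ (IsLocalRing.maximalIdeal B : Set B))).radical := by
    intro z hz
    have h3 : π z ∈ (IsLocalRing.maximalIdeal R).radical := Ideal.le_radical (map_nonunit π z hz)
    rw [hfrad] at h3
    obtain ⟨n, hn⟩ := h3
    refine ⟨n, ?_⟩
    rw [← map_pow] at hn
    have hspan : Ideal.span (Set.range f) = (Ideal.span (Set.range x)).map π := by
      rw [Ideal.map_span, ← Set.range_comp]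
      congr 1
      exact congrArg Set.range (funext fun i => (hx i).symm)
    rw [hspan, Ideal.mem_map_iff_of_surjective π hπ] at hn
    obtain ⟨w, hw, hwe⟩ := hn
    have hker : z ^ n - w ∈ mB ⊔ Ideal.span {g} := by
      have h4 : π (z ^ n - w) = 0 := by rw [map_sub, hwe, sub_self]
      have h5 : Ideal.Quotient.mk mB (z ^ n - w) ∈ Ideal.span {g'} := Ideal.Quotient.eq_zero_iff_mem.1 h4
      obtain ⟨v, hv⟩ := Ideal.mem_span_singleton'.1 h5
      obtain ⟨v, rfl⟩ := Ideal.Quotient.mk_surjective v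
      rw [← map_mul, Ideal.Quotient.eq] at hv
      rw [show z ^ n - w = -(v * g - (z ^ n - w)) + v * g by ring]
      exact Submodule.add_mem_sup (neg_mem hv) (Ideal.mem_span_singleton'.2 ⟨v, rfl⟩)
    have hle' : Ideal.span {g} ⊔ Ideal.span (Set.range x) ≤
        Ideal.span (Set.range t ∩ (IsLocalRing.maximalIdeal B : Set B)) := by
      refine sup_le (Ideal.span_mono ?_) (Ideal.span_mono ?_)
      · rintro _ rfl
        exact ⟨⟨Sum.inl ⟨none⟩, rfl⟩, hg⟩
      · rintro _ ⟨i, rfl⟩
        refine ⟨⟨Sum.inl ⟨some i⟩, rfl⟩, ?_⟩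
        show x i ∈ IsLocalRing.maximalIdeal B
        rw [IsLocalRing.mem_maximalIdeal]
        intro hu
        have := hu.map π
        rw [hx] at this
        exact (IsLocalRing.mem_maximalIdeal _).1 (hf i) this
    have h6 : z ^ n ∈ (mB ⊔ Ideal.span {g}) ⊔ Ideal.span (Set.range x) := by
      rw [← sub_add_cancel (z ^ n) w]
      exact Submodule.add_mem_sup hker hw
    rw [sup_assoc] at h6
    exact sup_le_sup_left hle' mB h6
  have halg : Algebra.IsAlgebraic (Algebra.adjoin (IsLocalRing.ResidueField A)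
      (Set.range fun i => IsLocalRing.residue B (t i))) (IsLocalRing.ResidueField B) := by
    have hle'' : Algebra.adjoin (IsLocalRing.ResidueField A) (Set.range ((↑) : S → IsLocalRing.ResidueField B)) ≤
        Algebra.adjoin (IsLocalRing.ResidueField A) (Set.range fun i => IsLocalRing.residue B (t i)) := by
      refine Algebra.adjoin_mono ?_
      rintro _ ⟨v, rfl⟩
      exact ⟨Sum.inr v, hy v⟩
    haveI := hS.isAlgebraic
    letI := (Subalgebra.inclusion hle'').toRingHom.toAlgebra
    haveI : IsScalarTower (Algebra.adjoin (IsLocalRing.ResidueField A) (Set.range ((↑) : S → IsLocalRing.ResidueField B)))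
        (Algebra.adjoin (IsLocalRing.ResidueField A) (Set.range fun i => IsLocalRing.residue B (t i)))
        (IsLocalRing.ResidueField B) := IsScalarTower.of_algebraMap_eq fun _ => rfl
    exact ⟨fun z => (Algebra.IsAlgebraic.isAlgebraic (R := Algebra.adjoin (IsLocalRing.ResidueField A)
      (Set.range ((↑) : S → IsLocalRing.ResidueField B))) z).extendScalars (Subalgebra.inclusion_injective hle'')⟩
  obtain ⟨r, hr, hri, hfrac⟩ := exists_quasiFinite_frame t hrad halg
  haveI : Algebra.IsAlgebraic (Algebra.adjoin A (Set.range t)) B := ⟨fun b => by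
    obtain ⟨c, s, hs, hbs, hc, hsi⟩ := hfrac b
    have hs0 : s ≠ 0 := fun h => hs (h ▸ Ideal.zero_mem _)
    refine IsAlgebraic.of_mul (mem_nonZeroDivisors_of_ne_zero hs0) hsi.isAlgebraic ?_
    rw [mul_comm, hbs]
    exact hc.isAlgebraic⟩
  have hcard : Cardinal.mk ι ≤ Algebra.trdeg A B := by
    refine le_trans ?_ hsum
    simp only [ι, Cardinal.mk_sum, Cardinal.lift_id, Cardinal.mk_uLift, Cardinal.mk_option, Cardinal.mk_fin, hScard]
    simp only [Cardinal.lift_add, Cardinal.lift_natCast, Cardinal.lift_one]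
    exact_mod_cast (show d' + 1 + e ≤ d + e by omega)
  have hind : AlgebraicIndependent A t := (Algebra.IsAlgebraic.isTranscendenceBasis_of_le_trdeg_of_finite A t hcard).1
  exact injective_of_frame t hind hfrac (Sum.inl ⟨none⟩) hg a ha

end Groth.Agent.HorizLib
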